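import Cfsg.Agent.Lib.Comp.J3x.Perm
import Cfsg.Agent.Lib.Comp.PermGrp
import Cfsg.Agent.Lib.Comp.Bridge2
import Cfsg.Agent.Lib.Comp.J3x.T02
import Cfsg.Agent.Lib.Comp.J3x.T1
import Cfsg.Agent.Lib.Comp.J3x.T2

set_option maxRecDepth 100000
set_option Elab.async false

namespace Cfsg.Lib.Comp.J3x

universe u

theorem T2_ord : Ord.{u} iv T2_R [1,2,3,4] 96 :=
  (T2_idx.ord_base).of_cons (cons_of_subset (by decide +kernel))

theorem T1_ord : Ord.{u} iv T1_R [1,2,3,4,5] 8160 :=
  (T1_idx.ord_step T2_ord).of_cons (cons_of_subset (by decide +kernel))

theorem T0_ord : Ord.{u} iv T0_R [1,2,3,4,5,6] 50232960 :=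
  (T0_idx.ord_step T1_ord).of_cons (cons_of_subset (by decide +kernel))

theorem ord : Ord.{u} iv R L 50232960 := T0_ord.of_cons (cons_of_subset (by decide +kernel))

theorem card : Nat.card (cl (gp nets) L) = 50232960 := card_of_ord ord nets_iv nets_rel lb

noncomputable def nc_h : ℕ := (nat_lit 0x500000000000000000000060000000000000000000020000600001f00001f000100002200001f0003000006000022000500002100002200040000060000210001000006000020000200000600001f000100000000000000000000010000000006000001000001000000001800000100040000180000010006000001000018000400000100001800060000060000060002000001000000000600000000000000000000020000010000000007000000000400000700000700010000070000010002000007000002000000000800000700030000000000000000000000000003000000000300000400060000080000030001000002000008000300000700000800020000010000080006000000000007000500000000000600040000030000040003000000000004000400000000000300010000000000020002000000000001)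

noncomputable def nc_c : List ℕ := [(nat_lit 0x1500009900460200007500009500007f01720300007f00005b00001700007500003700001500007900009300007b00001700003500a20b00007b00001700005100007700005100007500005100007500003500007500001500008900008d00007b00005900007900fe1000007b00005b000089001003000087000083000017000035000015004a05000000000000000000000000000001000071016e0200000100006d00005500005100000100006d00005500005100000100006d008c0a000061000069006e0200005d00006500005d00140300006100005f00006100800300005f00000300005700080300000000001700005100001500740300000500004d017202000019000049006e0200000300004b00003d01720300000500003f00004700004100000300003500000500003f000047004209000021000039017a0200001d000039016e0200002500003901720200001b00003100002b006e0300000900003301760200002d00001300002d00000f017a0400000f000019000021000029007c0400000b00000500002500080300001f00000300000500160300001f000003000019000c0300000000000000000000000f000009001402000000000000000000000000000028)]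

theorem nc_b : goalB 1 (fun _ p => p) iv (allCodes iv (([6,4,2,2], 0) :: R)) (fun t => look nc_h 64 t, nc_c) 0 [([1],1,(nat_lit 0x75)),
 ([2],1,(nat_lit 0x77)),
 ([3],1,(nat_lit 0x35)),
 ([4],1,(nat_lit 0x37)),
 ([5],1,(nat_lit 0x9d)),
 ([6],1,(nat_lit 0x51))] (msk []) = true := by decide +kernel

theorem nc : Mem.{u} iv (([6,4,2,2], 0) :: R) ([].map fun x => [x]) [[1],
 [2],
 [3],
 [4],
 [5],
 [6]] := mem_of_goalB nc_b

noncomputable def subs : List (List ℕ × ℕ) := [([5,1,3,1,5,1,3,5,1,3,5,1],85),
 ([3,5,1,3,1,5,1,3,1,3,1],120),
 ([1,3,5,3,1,5,1,3,1,3,5,1,5,1,1],510),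
 ([1,3,5,1,3,5,1,3,5,1,3,5,1,1,5],680),
 ([1,3,5,1,3,5,1,3,5,1,3,5,1,3,5,1,1],1360),
 ([1,3,5,1,3,5,1,3,5,1,3,5,1,3,1,5],1360),
 ([1,3,5,1,3,5,1,3,5,1,3,5,1,3,5,1,1],2040)]

theorem simpleB : cnd (transB nets L [6,1,1,3,5,6,1,3,6,1,5,1,3,6,1,5,3,1,6,1,3,5] 6156) (cnd (fxB 8192 13 6156 nets L)
  (cnd (invB nets [1,2,3,4,5] (Nat.shiftLeft 1 0)) (subsB nets [1,2,3,4,5] subs 1) false) false) false = true := by decide +kernel

theorem simple : IsSimpleGroup (cl (gp nets) L) :=
  simple_perm nets_ok (by norm_num) (by norm_num) nets_iv nets_rel (by decide +kernel) (fun x hx => mem_all (sub_of_subB (by decide +kernel) x hx)) simpleB (by decide +kernel)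
    (p := 19) (a := 1) (m := 2643840) (j := 1) (by norm_num) (card.trans (by norm_num)) (by norm_num) (by norm_num) (by decide +kernel)
    (w := [6,4,2,2]) (by decide +kernel) (eq_of_eqB (k := 13) (e := 18) (w := []) nets_ok (by norm_num) (by decide +kernel)) nc

end Cfsg.Lib.Comp.J3x
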