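import Cfsg.Agent.Lib.Comp.J3x.Base

set_option maxRecDepth 100000
set_option Elab.async false

namespace Cfsg.Lib.Comp.J3x

universe u

noncomputable def MuH1_1_R : List (List ℕ × ℕ) := [([3],2),
 ([1],3),
 ([1,3,1,4],1),
 ([1,3,2,4],1),
 ([1,1,3],2),
 ([1,3],5),
 ([1,2],0),
 ([3,4],0)]

noncomputable def MuH1_1_n_1 : Net :=
 (Net.cons 12 (nat_lit 0x424)
 (Net.cons 6 (nat_lit 0x3c010)
 (Net.cons 3 (nat_lit 0x106002)
 (Net.cons 1 (nat_lit 0x208248)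
 (Net.cons 1 (nat_lit 0x90480)
 (Net.cons 1 (nat_lit 0x40240)
 (Net.cons 3 (nat_lit 0x84082)
 (Net.cons 6 (nat_lit 0x23016)
 (Net.cons 12 (nat_lit 0x560)
 Net.nil)))))))))

noncomputable def MuH1_1_n_3 : Net :=
 (Net.cons 12 (nat_lit 0x74)
 (Net.cons 6 (nat_lit 0x28028)
 (Net.cons 3 (nat_lit 0x102082)
 (Net.cons 1 (nat_lit 0x1201)
 (Net.cons 1 (nat_lit 0x492490)
 (Net.cons 1 (nat_lit 0x209040)
 (Net.cons 3 (nat_lit 0x1461c4)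
 (Net.cons 6 (nat_lit 0x1a001)
 (Net.cons 12 (nat_lit 0x401)
 Net.nil)))))))))

noncomputable def MuH1_1_n : List Net := [Net.nil,
 MuH1_1_n_1,
 Net.rev MuH1_1_n_1,
 MuH1_1_n_3,
 Net.rev MuH1_1_n_3]

theorem MuH1_1_n_ok : NetsOK 24 MuH1_1_n := netsOK_of (by decide +kernel)

theorem MuH1_1_n_rel : Rels (gp MuH1_1_n) MuH1_1_R := rels_of_relsB (k := 5) MuH1_1_n_ok (by norm_num) (by decide +kernel)

theorem MuH1_1_fin : finB 24 MuH1_1_n [1,2,3,4] 24 (runH 24 MuH1_1_n (fun x p => ptInv (nth Net.nil MuH1_1_n x) p) iv MuH1_1_R [] ([1,2].map fun x => [x]) 0 []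
  [1,5,24,28,0,4,8,12,16,24,28,0,8,16,20,24,28,0,8,24,28]
  (defsH 24 MuH1_1_n (ones 168) [3,4,1,2,3,4,1,3] (Nat.shiftLeft 1 0) 0)) = true := by decide +kernel

theorem MuH1_1_idx : Idx.{u} iv (MuH1_1_R ++ []) ([1,2].map fun x => [x]) [1,2,3,4] 24 :=
  Reach.idx MuH1_1_n_ok (reach_runH MuH1_1_n_ok (fun x p _ => ptInv_gp MuH1_1_n_ok x p) MuH1_1_n_rel (reach_defsH MuH1_1_n_ok _ _ _ _ _ _) _ _) MuH1_1_fin (by norm_num)

end Cfsg.Lib.Comp.J3x
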