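import Cfsg.Agent.Lib.Comp.J3x.MuH0_0
import Cfsg.Agent.Lib.Comp.J3x.MuH0_1
import Cfsg.Agent.Lib.Comp.J3x.MuH1_0
import Cfsg.Agent.Lib.Comp.J3x.MuH1_1
import Cfsg.Agent.Lib.Comp.J3x.MuH1_2
import Cfsg.Agent.Lib.Comp.J3x.Mu0
import Cfsg.Agent.Lib.Comp.J3x.Main
import Cfsg.Agent.Lib.Comp.Cover

set_option maxRecDepth 100000
set_option Elab.async false

namespace Cfsg.Lib.Comp.J3x

universe u

theorem MuH0_1_ord : Ord.{u} iv MuH0_1_R [3,4] 3 :=
  (MuH0_1_idx.ord_base).of_cons (cons_of_subset (by decide +kernel))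

theorem MuH0_0_ord : Ord.{u} iv MuH0_0_R [3,4,5] 12 :=
  (MuH0_0_idx.ord_step MuH0_1_ord).of_cons (cons_of_subset (by decide +kernel))

noncomputable def MuH0_lb_n_3 : Net :=
 (Net.cons 2 (nat_lit 0x2)
 (Net.cons 1 (nat_lit 0x4)
 Net.nil))

noncomputable def MuH0_lb_n_5 : Net :=
 (Net.cons 1 (nat_lit 0x5)
 Net.nil)

noncomputable def MuH0_lb_n : List Net := [Net.nil,
 Net.nil,
 Net.nil,
 MuH0_lb_n_3,
 Net.rev MuH0_lb_n_3,
 MuH0_lb_n_5]

theorem MuH0_lb_n_ok : NetsOK 4 MuH0_lb_n := netsOK_of (by decide +kernel)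

theorem MuH0_lb : 12 ≤ Nat.card (cl (gp nets) [3,4,5]) :=
  lb_of_itwB (k := 2) (n := 4) nets_ok MuH0_lb_n_ok (by norm_num) (by norm_num) (tbA_pt nets_ok) (tbA_pt MuH0_lb_n_ok) (φ := look2 (nat_lit 0x9370093100903005c9) 20 64) (by decide +kernel) (by
    rw [← cl_eq_of_slpB (k := 2) (D := []) MuH0_lb_n_ok (by norm_num) (by decide +kernel)]
    exact lb_of_chainB MuH0_lb_n_ok (C := [([3,4],[5,3,3],0,0,4),
 ([],[3,3],1,1,3)]) (by decide +kernel))

theorem MuH1_2_ord : Ord.{u} iv MuH1_2_R [1,2] 4 :=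
  (MuH1_2_idx.ord_base).of_cons (cons_of_subset (by decide +kernel))

theorem MuH1_1_ord : Ord.{u} iv MuH1_1_R [1,2,3,4] 96 :=
  (MuH1_1_idx.ord_step MuH1_2_ord).of_cons (cons_of_subset (by decide +kernel))

theorem MuH1_0_ord : Ord.{u} iv MuH1_0_R [1,2,3,4,5] 8160 :=
  (MuH1_0_idx.ord_step MuH1_1_ord).of_cons (cons_of_subset (by decide +kernel))

noncomputable def MuH1_lb_n_1 : Net :=
 (Net.cons 48 (nat_lit 0xb6c000000000)
 (Net.cons 24 (nat_lit 0x45f640000000fff638)
 (Net.cons 12 (nat_lit 0x98c000a22000cf8000e06)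
 (Net.cons 6 (nat_lit 0x1802000800001a000038010)
 (Net.cons 3 (nat_lit 0x184002004000100106006000)
 (Net.cons 1 (nat_lit 0x8249040041008041001048)
 (Net.cons 1 (nat_lit 0x82482002492490412012010)
 (Net.cons 1 (nat_lit 0x41241001041040008008008)
 (Net.cons 3 (nat_lit 0xc1006105085182083085002)
 (Net.cons 6 (nat_lit 0x2202900602100701503a012)
 (Net.cons 12 (nat_lit 0x59c00084b0002e4000e84)
 (Net.cons 24 (nat_lit 0xf7b2d9000000ffef40)
 (Net.cons 48 (nat_lit 0xb6c000000000)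
 Net.nil)))))))))))))

noncomputable def MuH1_lb_n_3 : Net :=
 (Net.cons 48 (nat_lit 0x326000000000)
 (Net.cons 24 (nat_lit 0xd67664000000007000)
 (Net.cons 12 (nat_lit 0xb1e000e70000130000168)
 (Net.cons 6 (nat_lit 0x2203402c01002e014018004)
 (Net.cons 3 (nat_lit 0x4104004006100000100186)
 (Net.cons 1 (nat_lit 0x41200048000200000240008)
 (Net.cons 1 (nat_lit 0x482402490010092080410402)
 (Net.cons 1 (nat_lit 0x41200040008000040000200)
 (Net.cons 3 (nat_lit 0x851420060830440811c0102)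
 (Net.cons 6 (nat_lit 0x3201400501c02801403800e)
 (Net.cons 12 (nat_lit 0xd7c000fff0001a7000128)
 (Net.cons 24 (nat_lit 0xf63564000000007000)
 (Net.cons 48 (nat_lit 0x326000000000)
 Net.nil)))))))))))))

noncomputable def MuH1_lb_n_5 : Net :=
 (Net.cons 48 (nat_lit 0xe2cc4c05a780)
 (Net.cons 24 (nat_lit 0x2497200000001a0c60)
 (Net.cons 12 (nat_lit 0xf20000fc0000440000270)
 (Net.cons 6 (nat_lit 0x1c000000012000030030004)
 (Net.cons 3 (nat_lit 0x100000002000180102182184)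
 (Net.cons 1 (nat_lit 0x209208201201041209048049)
 (Net.cons 1 (nat_lit 0x402412492490410482492490)
 (Net.cons 1 (nat_lit 0x201208048008000041201048)
 (Net.cons 3 (nat_lit 0x1000001c50001800c2045184)
 (Net.cons 6 (nat_lit 0x3c01000002a000030030014)
 (Net.cons 12 (nat_lit 0xf60000fc00005c0000270)
 (Net.cons 24 (nat_lit 0x2497200000001a0c60)
 (Net.cons 48 (nat_lit 0xe2cc4c05a780)
 Net.nil)))))))))))))

noncomputable def MuH1_lb_n_64 : Net :=
 (Net.cons 48 (nat_lit 0x800000000000)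
 (Net.cons 24 (nat_lit 0x400000000000000000)
 (Net.cons 6 (nat_lit 0x30000010012020000000000)
 (Net.cons 3 (nat_lit 0x6000180100004000000004)
 (Net.cons 1 (nat_lit 0x209008008009200208)
 (Net.cons 1 (nat_lit 0x2492492482490092492490)
 (Net.cons 1 (nat_lit 0x1249048201240040049040)
 (Net.cons 3 (nat_lit 0x60c3185181144000000004)
 (Net.cons 6 (nat_lit 0x30011031004020000000000)
 (Net.cons 12 (nat_lit 0x401000801000000000000)
 (Net.cons 24 (nat_lit 0xc00001000000000000)
 (Net.cons 48 (nat_lit 0x800000000000)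
 Net.nil))))))))))))

noncomputable def MuH1_lb_n : List Net := (apd [Net.nil,
 MuH1_lb_n_1,
 Net.rev MuH1_lb_n_1,
 MuH1_lb_n_3,
 Net.rev MuH1_lb_n_3,
 MuH1_lb_n_5,
 Net.nil,
 Net.nil,
 Net.nil,
 Net.nil,
 Net.nil,
 Net.nil,
 Net.nil,
 Net.nil,
 Net.nil,
 Net.nil,
 Net.nil,
 Net.nil,
 Net.nil,
 Net.nil,
 Net.nil,
 Net.nil,
 Net.nil,
 Net.nil,
 Net.nil,
 Net.nil,
 Net.nil,
 Net.nil,
 Net.nil,
 Net.nil,
 Net.nil,
 Net.nil,
 Net.nil,
 Net.nil,
 Net.nil,
 Net.nil,
 Net.nil,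
 Net.nil,
 Net.nil,
 Net.nil]
 [Net.nil,
 Net.nil,
 Net.nil,
 Net.nil,
 Net.nil,
 Net.nil,
 Net.nil,
 Net.nil,
 Net.nil,
 Net.nil,
 Net.nil,
 Net.nil,
 Net.nil,
 Net.nil,
 Net.nil,
 Net.nil,
 Net.nil,
 Net.nil,
 Net.nil,
 Net.nil,
 Net.nil,
 Net.nil,
 Net.nil,
 Net.nil,
 MuH1_lb_n_64,
 Net.rev MuH1_lb_n_64])

theorem MuH1_lb_n_ok : NetsOK 96 MuH1_lb_n := netsOK_of (by decide +kernel)

theorem MuH1_lb : 8160 ≤ Nat.card (cl (gp nets) [1,2,3,4,5]) :=
  lb_of_itwB (k := 7) (n := 85) nets_ok MuH1_lb_n_ok (by norm_num) (by norm_num) (tbA_pt nets_ok) (tbA_pt MuH1_lb_n_ok) (φ := look2 (nat_lit 0x20000330002a0001e00032000290001800022000240002d0001f0003100023000210002c000190002e0003500027000160002b0001c00017000280003000025000260001a0001d0001b000340002f0001500014000130000e0000b0000c00008000100000a00012000090000f000110000d0000700006000050000400002000030003900042000450005000041000430004c0004a000360004700054000510003d000530003c0004d00044000520004e0003f00037000460003e0004f0003a000380004b000400005500048000490003b00001)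 20 64) (by decide +kernel) (by
    rw [← cl_eq_of_slpB (k := 7) (D := [(64,[4,1,4,2]),
 (65,[1,3,2,3])]) MuH1_lb_n_ok (by norm_num) (by decide +kernel)]
    exact lb_of_chainB MuH1_lb_n_ok (C := [([1,2,3,4,64,65],[5,1,3,1,5,64,1,3,5,1,1],0,0,85),
 ([64,65],[1,3,1,64,1,3,1],1,1,32),
 ([],[64,64],2,2,3)]) (by decide +kernel))

theorem Mu_mb : MB (cl (gp nets) L) 29070 3 :=
  mb_cyc (w := 38) (n := 20) (La := L) (ix := nth 0 [0,0,0,0,0,5,9]) (by norm_num) (by norm_num) (nets_iv.sval _) (nets_rel.sval fun r hr x hx => mem_cl (sub_of_allR (by decide +kernel) r hr x hx)) (by decide +kernel)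
    (TStep.trans (TStep.trans (TStep.trans (TStep.trans (TStep.trans (TStep.trans (TStep.trans (TStep.trans (TStep.trans (TStep.trans (TStep.trans (TStep.trans (TStep.trans (TStep.trans (TStep.repar (k' := 16) (by norm_num) (by norm_num) (by decide +kernel) (by decide +kernel) Mu1_b)
    (TStep.enum0 (by norm_num) (by norm_num) Mu2_0 (Gs := Mu2G) (by decide +kernel)))
    (TStep.repar (k' := 12) (by norm_num) (by norm_num) (by decide +kernel) (by decide +kernel) Mu3_b))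
    (TStep.enum0 (by norm_num) (by norm_num) Mu4_0 (Gs := Mu4G) (by decide +kernel)))
    (TStep.repar (k' := 9) (by norm_num) (by norm_num) (by decide +kernel) (by decide +kernel) Mu5_b))
    (TStep.enum0 (by norm_num) (by norm_num) Mu6_0 (Gs := Mu6G) (by decide +kernel)))
    (TStep.repar (k' := 5) (by norm_num) (by norm_num) (by decide +kernel) (by decide +kernel) Mu7_b))
    (TStep.enum0 (by norm_num) (by norm_num) Mu8_0 (Gs := Mu8G) (by decide +kernel)))
    (TStep.repar (k' := 3) (by norm_num) (by norm_num) (by decide +kernel) (by decide +kernel) Mu9_b))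
    (TStep.enum (by norm_num) (by norm_num) Mu10_0 (I := [0,5,6,19]) (by decide +kernel) (by decide +kernel) MuH0_0_ord (c := 1) (lb_sval (fun _ hx => mem_cl (sub_of_subB (by decide +kernel) _ hx)) MuH0_lb (by norm_num)) (Gs := Mu10G) (by decide +kernel)))
    (TStep.repar (k' := 1) (by norm_num) (by norm_num) (by decide +kernel) (by decide +kernel) Mu11_b))
    (TStep.repar (k' := 1) (by norm_num) (by norm_num) (by decide +kernel) (by decide +kernel) Mu12_b))
    (TStep.enum (by norm_num) (by norm_num) Mu13_0 (I := [0,1,2,3,4,5,6,7,8,16,18,19]) (by decide +kernel) (by decide +kernel) MuH1_0_ord (c := 1) (lb_sval (fun _ hx => mem_cl (sub_of_subB (by decide +kernel) _ hx)) MuH1_lb (by norm_num)) (Gs := Mu13G) (by decide +kernel)))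
    (TStep.repar (k' := 1) (by norm_num) (by norm_num) (by decide +kernel) (by decide +kernel) Mu14_b))
    (TStep.cons (by norm_num) (by norm_num) (c := (nat_lit 0x1)) (v := 3) (by decide +kernel) (by decide +kernel)))
    (by norm_num) List.mem_cons_self (by norm_num)
    (TStep.repar (k' := 0) (by norm_num) (by norm_num) (by decide +kernel) (by decide +kernel) Mu16_b)
    (L := [1,2,3,4,5,6]) (I := [0,1,2,3,4,5,6,7,8,9,10,11,12,13,14,15,16,17,18,19]) (by decide +kernel) (by decide +kernel) ord card.ge (cl_sval_top _ _)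

end Cfsg.Lib.Comp.J3x
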